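import Mathlib
import Groth.Prelude.Def_FDesc
import Groth.Agent.AssPoints.Basic
import Groth.Agent.SamuelLow.Basic

/-!
# Associated points: dictionary with supports and affine charts
-/

universe u

open AlgebraicGeometry CategoryTheory TopologicalSpace

set_option backward.isDefEq.respectTransparency false

namespace Groth.Agent.AssSchLib

variable {X : Scheme.{u}} {F : X.Modules}

theorem nontrivial_of_ass {x : X} (hx : x ∈ AssSch.Ass F) : Nontrivial (F.presheaf.stalk x) := by
  rw [← not_subsingleton_iff_nontrivial]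
  intro h
  exact AssPoints.not_isWeakAssPoint_of_subsingleton (AssPoints.isWeakAssPoint_iff_isAssPoint.2 hx)

theorem exists_ass_generization [F.IsQuasicoherent] {W : X.Opens} {x : X}
    (hxW : x ∈ W) (a : Γ(F, W)) (hne : F.presheaf.germ W x hxW a ≠ 0) :
    ∃ (x' : X) (h : x' ⤳ x), x' ∈ AssSch.Ass F ∧
      F.presheaf.germ W x' (h.mem_open W.isOpen hxW) a ≠ 0 := by
  obtain ⟨x', h, hw, hne'⟩ := AssPoints.exists_isWeakAssPoint_of_germ_ne_zero inferInstance hxW a hne
  exact ⟨x', h, AssPoints.isWeakAssPoint_iff_isAssPoint.1 hw, hne'⟩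

theorem exists_ass_of_nontrivial [F.IsQuasicoherent] {x : X} (h : Nontrivial (F.presheaf.stalk x)) :
    ∃ x', x' ⤳ x ∧ x' ∈ AssSch.Ass F := by
  obtain ⟨m, hm⟩ := exists_ne (0 : F.presheaf.stalk x)
  obtain ⟨W, hxW, a, rfl⟩ := F.presheaf.exists_germ_eq m
  obtain ⟨x', hs, hx', -⟩ := exists_ass_generization hxW a hm
  exact ⟨x', hs, hx'⟩

/-- Maximal associated points are the maximal points of the support. -/
theorem maximal_iff [F.IsQuasicoherent] (x : X) :
    (x ∈ AssSch.Ass F ∧ ∀ y ∈ AssSch.Ass F, y ⤳ x → y = x) ↔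
      (Nontrivial (F.presheaf.stalk x) ∧
        ∀ y : X, Nontrivial (F.presheaf.stalk y) → y ⤳ x → y = x) := by
  refine ⟨fun ⟨hx, hmax⟩ => ⟨nontrivial_of_ass hx, fun y hy hyx => ?_⟩, fun ⟨hx, hmax⟩ => ⟨?_, ?_⟩⟩
  · obtain ⟨η, hη, hηA⟩ := exists_ass_of_nontrivial hy
    obtain rfl := hmax η hηA (hη.trans hyx)
    exact (hyx.antisymm hη).eq
  · obtain ⟨η, hη, hηA⟩ := exists_ass_of_nontrivial hx
    rwa [hmax η (nontrivial_of_ass hηA) hη] at hηA
  · exact fun y hy => hmax y (nontrivial_of_ass hy)

/-- A global function is a nonzerodivisor on all stalks iff it avoids no associated point. -/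
theorem isSMulRegular_stalk_iff [F.IsQuasicoherent] (f : Γ(X, ⊤)) :
    (∀ x : X, IsSMulRegular (F.presheaf.stalk x) (X.presheaf.germ ⊤ x trivial f)) ↔
      AssSch.Ass F ⊆ (X.basicOpen f : Set X) := by
  constructor
  · intro h x hx
    by_contra hf
    obtain ⟨-, m, hm⟩ := hx
    have hfm : X.presheaf.germ ⊤ x trivial f ∈ IsLocalRing.maximalIdeal (X.presheaf.stalk x) :=
      fun hu => hf ((X.mem_basicOpen f x trivial).2 hu)
    rw [hm] at hfm
    obtain ⟨k, hk⟩ := hfm
    rw [Submodule.mem_colon_singleton, Submodule.mem_bot] at hk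
    have h0 : m = 0 := (h x).pow k (hk.trans (smul_zero _).symm)
    apply (IsLocalRing.maximalIdeal.isMaximal (X.presheaf.stalk x)).ne_top
    rw [hm, Ideal.radical_eq_top, Ideal.eq_top_iff_one, Submodule.mem_colon_singleton,
      Submodule.mem_bot, h0, smul_zero]
  · intro h x
    rw [isSMulRegular_iff_right_eq_zero_of_smul]
    intro m hm
    by_contra hne
    obtain ⟨W, hxW, a, rfl⟩ := F.presheaf.exists_germ_eq m
    let r : Γ(X, W) := X.presheaf.map (homOfLE (le_top : W ≤ ⊤)).op f
    have hr : ∀ (y : X) (hy : y ∈ W),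
        X.presheaf.germ W y hy r = X.presheaf.germ ⊤ y trivial f := fun y hy =>
      TopCat.Presheaf.germ_res_apply _ _ _ _ _
    rw [← hr x hxW, ← QCohLib.germ_smul, ← map_zero (F.presheaf.germ W x hxW).hom] at hm
    obtain ⟨Z, hxZ, i, j, e⟩ := F.presheaf.germ_eq x hxW hxW (r • a) 0 hm
    obtain ⟨η, hη, hA, hne'⟩ := exists_ass_generization hxW a hne
    refine hne' ((((X.mem_basicOpen f η trivial).1 (h hA))).smul_eq_zero.1 ?_)
    have hηW := hη.mem_open W.isOpen hxW
    rw [← hr η hηW, ← QCohLib.germ_smul]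
    have hηZ := hη.mem_open Z.isOpen hxZ
    rw [← TopCat.Presheaf.germ_res_apply F.presheaf i η hηZ (r • a), e, map_zero, map_zero]

/-- Associated points give associated primes of the sections on an affine open. -/
theorem primeIdealOf_mem_associatedPrimes [F.IsQuasicoherent] {U : X.Opens} (hU : IsAffineOpen U)
    [IsNoetherianRing Γ(X, U)] {x : X} (hxU : x ∈ U) (hx : x ∈ AssSch.Ass F) :
    (hU.primeIdealOf ⟨x, hxU⟩).asIdeal ∈ associatedPrimes Γ(X, U) Γ(F, U) := by
  letI := QCohLib.germModule F x hxU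
  haveI := QCohLib.isLocalizedModule_germ (M := F) hU x hxU
  letI : Algebra Γ(X, U) (X.presheaf.stalk x) := (X.presheaf.germ U x hxU).hom.toAlgebra
  haveI : IsLocalization.AtPrime (X.presheaf.stalk x) (hU.primeIdealOf ⟨x, hxU⟩).asIdeal :=
    hU.isLocalization_stalk ⟨x, hxU⟩
  haveI : IsScalarTower Γ(X, U) (X.presheaf.stalk x) (F.presheaf.stalk x) :=
    IsScalarTower.of_algebraMap_smul fun _ _ => rfl
  have h := Module.associatedPrimes.comap_mem_associatedPrimes_of_mem_associatedPrimes_of_isLocalizedModule_of_fg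
    (hU.primeIdealOf ⟨x, hxU⟩).asIdeal.primeCompl (R' := X.presheaf.stalk x)
    (QCohLib.germLinearMap F x hxU) _ hx (IsNoetherian.noetherian _)
  have e : Ideal.comap (algebraMap Γ(X, U) (X.presheaf.stalk x))
      (IsLocalRing.maximalIdeal (X.presheaf.stalk x)) = (hU.primeIdealOf ⟨x, hxU⟩).asIdeal :=
    IsLocalization.AtPrime.under_maximalIdeal (R := Γ(X, U)) (X.presheaf.stalk x) _
  rwa [e] at h

/-- Finitely many associated points on an affine open. -/
theorem finite_ass_inter [IsLocallyNoetherian X] (hF : Coh.IsCoh F) {U : X.Opens} (hU : IsAffineOpen U) :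
    (AssSch.Ass F ∩ (U : Set X)).Finite := by
  haveI : F.IsQuasicoherent := hF.1
  haveI : IsNoetherianRing Γ(X, U) := IsLocallyNoetherian.component_noetherian (X := X) ⟨U, hU⟩
  haveI : Module.Finite Γ(X, U) Γ(F, U) := QCohLib.finite_sections _ hF.2 hU
  have hfin : (associatedPrimes Γ(X, U) Γ(F, U)).Finite := associatedPrimes.finite ..
  refine (((hfin.preimage (f := PrimeSpectrum.asIdeal) (fun a _ b _ h => PrimeSpectrum.ext h)).image
    hU.fromSpec)).subset ?_
  rintro x ⟨hx, hxU⟩
  exact ⟨hU.primeIdealOf ⟨x, hxU⟩, primeIdealOf_mem_associatedPrimes hU hxU hx,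
    hU.fromSpec_primeIdealOf ⟨x, hxU⟩⟩

/-- A point is maximal in the support iff the stalk has finite length. -/
theorem maximal_support_iff_isFiniteLength [IsLocallyNoetherian X] (hF : Coh.IsCoh F) (x : X) :
    (Nontrivial (F.presheaf.stalk x) ∧ ∀ y : X, Nontrivial (F.presheaf.stalk y) → y ⤳ x → y = x) ↔
      (Nontrivial (F.presheaf.stalk x) ∧
        IsFiniteLength (X.presheaf.stalk x) (F.presheaf.stalk x)) := by
  haveI : F.IsQuasicoherent := hF.1
  refine and_congr_right fun hx => ?_
  obtain ⟨U, hU, hxU, -⟩ := exists_isAffineOpen_mem_and_subset (X := X) (x := x) (U := ⊤) trivial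
  haveI : IsNoetherianRing Γ(X, U) := IsLocallyNoetherian.component_noetherian (X := X) ⟨U, hU⟩
  haveI : Module.Finite Γ(X, U) Γ(F, U) := QCohLib.finite_sections _ hF.2 hU
  let p := MeroBasic.pr hU x hxU
  let A := Module.annihilator Γ(X, U) Γ(F, U)
  letI := QCohLib.germModule F x hxU
  haveI := QCohLib.isLocalizedModule_germ (M := F) hU x hxU
  letI : Algebra Γ(X, U) (X.presheaf.stalk x) := (X.presheaf.germ U x hxU).hom.toAlgebra
  haveI : IsLocalization.AtPrime (X.presheaf.stalk x) p := hU.isLocalization_stalk ⟨x, hxU⟩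
  haveI : IsScalarTower Γ(X, U) (X.presheaf.stalk x) (F.presheaf.stalk x) :=
    IsScalarTower.of_algebraMap_smul fun _ _ => rfl
  haveI : Module.Finite (X.presheaf.stalk x) (F.presheaf.stalk x) :=
    Module.Finite.of_isLocalizedModule p.primeCompl (QCohLib.germLinearMap F x hxU)
  let J := Module.annihilator (X.presheaf.stalk x) (F.presheaf.stalk x)
  constructor
  · intro hmax
    have hrad : IsLocalRing.maximalIdeal (X.presheaf.stalk x) ≤ J.radical := by
      rw [Ideal.radical_eq_sInf]
      refine le_sInf fun Q ⟨hQJ, hQ⟩ => ?_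
      let q : PrimeSpectrum Γ(X, U) := ⟨Q.comap (algebraMap Γ(X, U) _), Ideal.IsPrime.comap _⟩
      have hqp : q.asIdeal ≤ p := by
        intro r hr
        by_contra hrp
        exact hQ.ne_top (Q.eq_top_of_isUnit_mem hr (IsLocalization.map_units _ (⟨r, hrp⟩ : p.primeCompl)))
      have hsupp : q ∈ Module.support Γ(X, U) Γ(F, U) := by
        rw [Module.mem_support_iff_of_finite]
        intro r hr
        refine hQJ ?_
        rw [Module.mem_annihilator]
        intro m
        obtain ⟨⟨a, s⟩, hs⟩ := IsLocalizedModule.surj p.primeCompl (QCohLib.germLinearMap F x hxU) m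
        refine (IsLocalization.map_units (X.presheaf.stalk x) s).smul_eq_zero.1 ?_
        rw [smul_comm, algebraMap_smul, algebraMap_smul,
          show ((s : Γ(X, U)) • m) = QCohLib.germLinearMap F x hxU a from hs, ← map_smul,
          Module.mem_annihilator.1 hr a, map_zero]
      have hy : hU.fromSpec q ∈ CohB1.support F := by
        rw [QCohLib.mem_support_iff_mem_moduleSupport hU _ (MeroBasic.fromSpec_mem hU q),
          MeroBasic.primeIdealOf_fromSpec]
        exact hsupp
      have hyx := hmax _ (not_subsingleton_iff_nontrivial.1 hy)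
        (MeroBasic.specializes_of_le hU q hqp)
      have hpq : p = q.asIdeal := by
        have : hU.primeIdealOf ⟨x, hxU⟩ = q := by
          rw [← MeroBasic.primeIdealOf_fromSpec hU q]
          exact congrArg hU.primeIdealOf (Subtype.ext hyx.symm)
        exact congrArg PrimeSpectrum.asIdeal this
      intro z hz
      obtain ⟨⟨r, s⟩, hs⟩ := IsLocalization.surj p.primeCompl z
      have hr : r ∈ p := by
        by_contra hrp
        have h1 : IsUnit (z * algebraMap _ (X.presheaf.stalk x) (s : Γ(X, U))) :=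
          hs ▸ IsLocalization.map_units _ (⟨r, hrp⟩ : p.primeCompl)
        exact hz (IsUnit.mul_iff.1 h1).1
      rw [hpq] at hr
      have hmem : algebraMap Γ(X, U) (X.presheaf.stalk x) r ∈ Q := hr
      rw [← hs] at hmem
      exact (hQ.mem_or_mem hmem).resolve_right fun h =>
        hQ.ne_top (Q.eq_top_of_isUnit_mem h (IsLocalization.map_units _ s))
    have hart := (isFiniteLength_iff_isNoetherian_isArtinian.1
      (SamuelLow.isFiniteLength_quotient hrad)).2
    obtain ⟨n, v, hv⟩ := Module.Finite.exists_fin (R := X.presheaf.stalk x) (M := F.presheaf.stalk x)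
    haveI : IsArtinian (X.presheaf.stalk x) (Fin n → (X.presheaf.stalk x) ⧸ J) := inferInstance
    let t (i : Fin n) : ((X.presheaf.stalk x) ⧸ J) →ₗ[X.presheaf.stalk x] F.presheaf.stalk x :=
      J.liftQ (LinearMap.toSpanSingleton _ _ (v i)) fun r hr => Module.mem_annihilator.1 hr (v i)
    let T := ∑ i, (t i).comp (LinearMap.proj (R := X.presheaf.stalk x) i)
    have hT : Function.Surjective T := by
      rw [← LinearMap.range_eq_top, eq_top_iff, ← hv, Submodule.span_le]
      rintro _ ⟨i, rfl⟩
      exact ⟨Pi.single i (Submodule.Quotient.mk 1), by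
        simp [T, t, LinearMap.sum_apply, Pi.single_apply, apply_ite]
        exact one_smul (X.presheaf.stalk x) (v i)⟩
    exact isFiniteLength_iff_isNoetherian_isArtinian.2
      ⟨inferInstance, isArtinian_of_surjective _ T hT⟩
  · intro hfl y hy hyx
    haveI := (isFiniteLength_iff_isNoetherian_isArtinian.1 hfl).2
    by_contra hne
    have hyU := hyx.mem_open U.isOpen hxU
    have hle : MeroBasic.pr hU y hyU ≤ p := MeroBasic.pr_le_pr hU hyx
    have hnle : ¬ p ≤ MeroBasic.pr hU y hyU := fun h => hne <| by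
      have : hU.primeIdealOf ⟨y, hyU⟩ = hU.primeIdealOf ⟨x, hxU⟩ :=
        PrimeSpectrum.ext (le_antisymm hle h)
      have := congrArg hU.fromSpec this
      rwa [hU.fromSpec_primeIdealOf, hU.fromSpec_primeIdealOf] at this
    obtain ⟨r, hrp, hrq⟩ := SetLike.not_le_iff_exists.1 hnle
    refine (not_subsingleton_iff_nontrivial.2 hy) ?_
    rw [QCohLib.subsingleton_stalk_iff hU y hyU]
    intro a
    have hrmax : algebraMap Γ(X, U) (X.presheaf.stalk x) r ∈
        IsLocalRing.maximalIdeal (X.presheaf.stalk x) :=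
      (IsLocalization.AtPrime.to_map_mem_maximal_iff (X.presheaf.stalk x) p r).2 hrp
    let g : X.presheaf.stalk x := algebraMap Γ(X, U) (X.presheaf.stalk x) r
    have hzero : ∃ k, g ^ k • QCohLib.germLinearMap F x hxU a = 0 := by
      let N := Submodule.span (X.presheaf.stalk x) {QCohLib.germLinearMap F x hxU a}
      obtain ⟨n, ⟨y', hy'⟩, hn⟩ := IsArtinian.exists_pow_succ_smul_dvd g
        (⟨_, Submodule.mem_span_singleton_self _⟩ : N)
      obtain ⟨c, rfl⟩ := Submodule.mem_span_singleton.1 hy'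
      have hn' : g ^ (n + 1) • c • QCohLib.germLinearMap F x hxU a =
          g ^ n • QCohLib.germLinearMap F x hxU a := congrArg Subtype.val hn
      have hu : IsUnit (1 - g * c) :=
        IsLocalRing.isUnit_one_sub_self_of_mem_nonunits _ (Ideal.mul_mem_right c _ hrmax)
      refine ⟨n, hu.smul_eq_zero.1 ?_⟩
      rw [sub_smul, one_smul, smul_smul, show g * c * g ^ n = g ^ (n + 1) * c by ring, mul_smul,
        hn', sub_self]
    obtain ⟨k, hk⟩ := hzero
    rw [← map_pow, algebraMap_smul, ← map_smul, ← map_zero (QCohLib.germLinearMap F x hxU)] at hk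
    obtain ⟨⟨v, hvp⟩, hv⟩ := (IsLocalizedModule.eq_iff_exists p.primeCompl _).1 hk
    refine ⟨v * r ^ k, ?_, ?_⟩
    · rw [QCohLib.mem_basicOpen_iff_notMem_primeIdealOf hU hyU]
      intro hmem
      rcases (inferInstance : (MeroBasic.pr hU y hyU).IsPrime).mem_or_mem hmem with h | h
      · exact hvp (hle h)
      · exact hrq (Ideal.IsPrime.mem_of_pow_mem inferInstance k h)
    · rw [mul_smul]
      simpa using hv

end Groth.Agent.AssSchLib
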