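import Mathlib
import Groth.Prelude.Def_FlatMod2
import Groth.Agent.AssSchLib.Basic
import Groth.Agent.MeroBasic.Reg
import Groth.Agent.InvBasic.QCoh

/-!
# Associated points of flat modules
-/

universe u

open AlgebraicGeometry CategoryTheory TopologicalSpace
open scoped nonZeroDivisors

set_option backward.isDefEq.respectTransparency false

namespace Groth.Agent.AssSchLib

variable {X Y : Scheme.{u}}

theorem nontrivial_structureModule_stalk (y : Y) :
    Nontrivial ((Coh.structureModule Y).presheaf.stalk y) := by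
  refine ⟨⟨(Coh.structureModule Y).presheaf.germ ⊤ y (trivial : y ∈ (⊤ : Y.Opens)) (1 : Γ(Y, ⊤)), 0,
    fun h => ?_⟩⟩
  exact one_ne_zero (MeroBasic.smul_one_germ_eq_zero y 1 (by rw [h, smul_zero]))

theorem map_mem_ass_of_isFlatOver [IsLocallyNoetherian Y] {f : X ⟶ Y} {F : X.Modules}
    (hfl : FlatMod.IsFlatOver f F) {x : X} (hx : x ∈ AssSch.Ass F) :
    f x ∈ AssSch.Ass (Coh.structureModule Y) := by
  by_cases hass : IsLocalRing.maximalIdeal (Y.presheaf.stalk (f x)) ∈
      associatedPrimes (Y.presheaf.stalk (f x)) (Y.presheaf.stalk (f x))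
  · obtain ⟨-, c, hc⟩ := hass
    refine AssPoints.isWeakAssPoint_iff_isAssPoint.1
      (MeroBasic.isWeakAssPoint_of_radical_eq (f x) c ?_)
    rw [hc]
    congr 1
    ext r
    simp [Submodule.mem_colon_singleton]
  exfalso
  obtain ⟨r, hrm, hr⟩ : ∃ r ∈ IsLocalRing.maximalIdeal (Y.presheaf.stalk (f x)),
      r ∈ (Y.presheaf.stalk (f x))⁰ := by
    by_contra! h
    have hsub : (IsLocalRing.maximalIdeal (Y.presheaf.stalk (f x)) : Set _) ⊆
        ⋃ p ∈ associatedPrimes (Y.presheaf.stalk (f x)) (Y.presheaf.stalk (f x)), ((p : Ideal (Y.presheaf.stalk (f x))) : Set (Y.presheaf.stalk (f x))) := by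
      rw [biUnion_associatedPrimes_eq_compl_nonZeroDivisors]
      exact fun r hr => h r hr
    obtain ⟨p, hp, hle⟩ := (Ideal.subset_union_prime_finite (associatedPrimes.finite ..)
      (f := id) ⊥ ⊥ fun p hp _ _ => IsAssociatedPrime.isPrime hp).1 hsub
    exact hass ((((IsLocalRing.maximalIdeal.isMaximal _).eq_of_le
      (IsAssociatedPrime.isPrime hp).ne_top hle)) ▸ hp)
  letI := FlatMod.moduleStalkOver f F x
  haveI : Module.Flat (Y.presheaf.stalk (f x)) (F.presheaf.stalk x) := hfl x
  have hreg : IsSMulRegular (F.presheaf.stalk x) r :=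
    Module.IsTorsionFree.isSMulRegular (isRegular_iff_mem_nonZeroDivisors.2 hr)
  obtain ⟨-, m, hm⟩ := hx
  have hfm : f.stalkMap x r ∈ IsLocalRing.maximalIdeal (X.presheaf.stalk x) :=
    fun hu => hrm ((isUnit_map_iff (f.stalkMap x).hom r).1 hu)
  rw [hm] at hfm
  obtain ⟨k, hk⟩ := hfm
  rw [Submodule.mem_colon_singleton, Submodule.mem_bot, ← map_pow] at hk
  have h0 : m = 0 := (hreg.pow k) (show r ^ k • m = r ^ k • (0 : F.presheaf.stalk x) by
    rw [smul_zero]; exact hk)
  apply (IsLocalRing.maximalIdeal.isMaximal (X.presheaf.stalk x)).ne_top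
  rw [hm, Ideal.radical_eq_top, Ideal.eq_top_iff_one, Submodule.mem_colon_singleton,
    Submodule.mem_bot, h0, smul_zero]

theorem eq_of_specializes_map_of_mem_ass [IsLocallyNoetherian Y] {f : X ⟶ Y}
    (hY : AssSch.NoEmbedded (Coh.structureModule Y)) {F : X.Modules}
    (hfl : FlatMod.IsFlatOver f F) {x : X} (hx : x ∈ AssSch.Ass F) {y : Y} (hy : y ⤳ f x) :
    y = f x := by
  haveI := InvBasic.isQuasicoherent_structureModule Y
  obtain ⟨η, hη, hηA⟩ := exists_ass_of_nontrivial (nontrivial_structureModule_stalk y)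
  have h := hY (f x) (map_mem_ass_of_isFlatOver hfl hx) η hηA (hη.trans hy)
  exact (hy.antisymm (h ▸ hη)).eq

end Groth.Agent.AssSchLib
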