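import Mathlib
import Groth.Prelude.Def_CohB1
import Groth.Agent.AssSchLib.Basic
import Groth.Agent.FlatDescent.RestrictFlat

/-!
# Associated points and reducedness under restriction to opens
-/

universe u

open AlgebraicGeometry CategoryTheory TopologicalSpace

set_option backward.isDefEq.respectTransparency false

namespace Groth.Agent.AssSchLib

variable {X Y : Scheme.{u}} (k : Y ⟶ X) [IsOpenImmersion k] (F : X.Modules)

theorem exists_pullback_stalkEquiv (y : Y) :
    ∃ L : ((Scheme.Modules.pullback k).obj F).presheaf.stalk y ≃+ F.presheaf.stalk (k y),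
      ∀ (r : X.presheaf.stalk (k y)) a, L (k.stalkMap y r • a) = r • L a := by
  let e := (Scheme.Modules.restrictFunctorIsoPullback k).app F
  have hb : Function.Bijective (QCohLib.stalkLinearMap e.inv y) := by
    have h : Function.Bijective (QCohLib.stalkHom e.inv y) :=
      (QCohLib.isIso_iff_stalk_bijective e.inv).mp inferInstance y
    exact ⟨fun a b hab => h.1 hab, h.2⟩
  let l₁ := LinearEquiv.ofBijective (QCohLib.stalkLinearMap e.inv y) hb
  let L₂ : ((Scheme.Modules.restrictFunctor k).obj F).presheaf.stalk y ≃+ F.presheaf.stalk (k y) :=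
    AddEquiv.ofBijective (QCohLib.restrictStalkIso k F y).hom.hom
      (QCohLib.restrictStalkIso_bijective k F y)
  refine ⟨l₁.toAddEquiv.trans L₂, fun r a => ?_⟩
  change (QCohLib.restrictStalkIso k F y).hom (l₁ (k.stalkMap y r • a)) = _
  rw [l₁.map_smul, Groth.FlatDescent.restrictStalk_smul]
  rfl

theorem mem_ass_pullback_iff (y : Y) :
    y ∈ AssSch.Ass ((Scheme.Modules.pullback k).obj F) ↔ k y ∈ AssSch.Ass F := by
  obtain ⟨L, hL⟩ := exists_pullback_stalkEquiv k F y
  have hs : Function.Bijective (k.stalkMap y) := ConcreteCategory.bijective_of_isIso _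
  have hmax : ∀ r, k.stalkMap y r ∈ IsLocalRing.maximalIdeal (Y.presheaf.stalk y) ↔
      r ∈ IsLocalRing.maximalIdeal (X.presheaf.stalk (k y)) := fun r =>
    not_congr (isUnit_map_iff (k.stalkMap y).hom r)
  have key : ∀ (r : X.presheaf.stalk (k y)) a (n : ℕ),
      (k.stalkMap y r) ^ n • a = 0 ↔ r ^ n • L a = 0 := fun r a n => by
    rw [← map_pow, ← L.map_eq_zero_iff, hL]
  constructor
  · rintro ⟨-, a, ha⟩
    refine ⟨inferInstance, L a, ?_⟩
    ext r
    rw [← hmax, ha]
    simp only [Ideal.mem_radical_iff, Submodule.mem_colon_singleton, Submodule.mem_bot, key]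
  · rintro ⟨-, b, hb⟩
    obtain ⟨a, rfl⟩ := L.surjective b
    refine ⟨inferInstance, a, ?_⟩
    ext z
    obtain ⟨r, rfl⟩ := hs.2 z
    rw [hmax, hb]
    simp only [Ideal.mem_radical_iff, Submodule.mem_colon_singleton, Submodule.mem_bot, key]

theorem length_pullback_stalk (y : Y) :
    Module.length (Y.presheaf.stalk y) (((Scheme.Modules.pullback k).obj F).presheaf.stalk y) =
      Module.length (X.presheaf.stalk (k y)) (F.presheaf.stalk (k y)) := by
  obtain ⟨L, hL⟩ := exists_pullback_stalkEquiv k F y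
  letI := (k.stalkMap y).hom.toAlgebra
  letI : Module (X.presheaf.stalk (k y)) (((Scheme.Modules.pullback k).obj F).presheaf.stalk y) :=
    Module.compHom _ (k.stalkMap y).hom
  haveI : IsScalarTower (X.presheaf.stalk (k y)) (Y.presheaf.stalk y)
      (((Scheme.Modules.pullback k).obj F).presheaf.stalk y) :=
    IsScalarTower.of_algebraMap_smul fun _ _ => rfl
  rw [← Module.length_eq_of_surjective (R := Y.presheaf.stalk y) (S := X.presheaf.stalk (k y))
    (M := ((Scheme.Modules.pullback k).obj F).presheaf.stalk y)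
    ((ConcreteCategory.bijective_of_isIso (k.stalkMap y)).2 :
      Function.Surjective (algebraMap (X.presheaf.stalk (k y)) (Y.presheaf.stalk y)))]
  exact LinearEquiv.length_eq { L with map_smul' := fun r a => hL r a }

theorem noEmbedded_pullback (h : AssSch.NoEmbedded F) :
    AssSch.NoEmbedded ((Scheme.Modules.pullback k).obj F) := fun a ha b hb hba =>
  k.isOpenEmbedding.injective (h _ ((mem_ass_pullback_iff k F a).1 ha) _
    ((mem_ass_pullback_iff k F b).1 hb) (hba.map k.continuous))

theorem isReducedMod_pullback (h : AssSch.IsReducedMod F) :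
    AssSch.IsReducedMod ((Scheme.Modules.pullback k).obj F) :=
  ⟨noEmbedded_pullback k F h.1, fun a ha => by
    rw [length_pullback_stalk]; exact h.2 _ ((mem_ass_pullback_iff k F a).1 ha)⟩

theorem isReducedMod_iff_restrict [IsLocallyNoetherian X] (hF : Coh.IsCoh F) (U : X.Opens)
    (hdense : CohB1.support F ⊆ closure ((U : Set X) ∩ CohB1.support F)) :
    AssSch.IsReducedMod F ↔
      AssSch.IsReducedMod ((Scheme.Modules.pullback U.ι).obj F) ∧ AssSch.NoEmbedded F := by
  haveI : F.IsQuasicoherent := hF.1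
  refine ⟨fun h => ⟨isReducedMod_pullback U.ι F h, h.1⟩, fun ⟨hU, hne⟩ => ⟨hne, fun x hx => ?_⟩⟩
  suffices hxU : x ∈ U by
    have := hU.2 ⟨x, hxU⟩ ((mem_ass_pullback_iff U.ι F ⟨x, hxU⟩).2 hx)
    rwa [length_pullback_stalk] at this
  -- the finitely many associated points near `x`
  obtain ⟨V, hV, hxV, -⟩ := exists_isAffineOpen_mem_and_subset (X := X) (x := x) (U := ⊤) trivial
  let S := (AssSch.Ass F ∩ (V : Set X)) \ {x}
  have hfin : S.Finite := (finite_ass_inter hF hV).sdiff
  let C : Set X := ⋃ η ∈ S, closure {η}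
  have hC : IsClosed C := hfin.isClosed_biUnion fun _ _ => isClosed_closure
  have hxC : x ∉ C := by
    simp only [C, Set.mem_iUnion, not_exists]
    intro η hη hmem
    exact hη.2 (hne x hx η hη.1.1 (specializes_iff_mem_closure.2 hmem)).symm
  have hxsupp : x ∈ CohB1.support F := not_subsingleton_iff_nontrivial.2 (nontrivial_of_ass hx)
  obtain ⟨z, ⟨hzC, hzV⟩, hzU, hz⟩ := mem_closure_iff.1 (hdense hxsupp) (Cᶜ ∩ (V : Set X))
    (hC.isOpen_compl.inter V.isOpen) ⟨hxC, hxV⟩
  obtain ⟨η, hηz, hη⟩ := exists_ass_of_nontrivial (not_subsingleton_iff_nontrivial.1 hz)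
  by_contra hxU
  refine hzC ?_
  simp only [C, Set.mem_iUnion]
  refine ⟨η, ⟨⟨hη, hηz.mem_open V.isOpen hzV⟩, ?_⟩, specializes_iff_mem_closure.1 hηz⟩
  intro hηx
  -- if `η = x` then `z` is a specialisation of `x` and `U` would contain `x`
  exact hxU ((Set.mem_singleton_iff.1 hηx ▸ hηz : x ⤳ z).mem_open U.isOpen hzU)

end Groth.Agent.AssSchLib
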