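import Mathlib
import Groth.Agent.AssSchLib.Basic

/-!
# Uniqueness of primary components at non-embedded associated points
-/

universe u

open AlgebraicGeometry CategoryTheory Limits TopologicalSpace Opposite

set_option backward.isDefEq.respectTransparency false

namespace Groth.Agent.AssSchLib

variable {X : Scheme.{u}}

/-- A section of a module with a single associated point is determined by its germ there. -/
theorem eq_zero_of_ass_subset_singleton {G : X.Modules} [G.IsQuasicoherent] {x : X}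
    (hA : AssSch.Ass G ⊆ {x}) {W : X.Opens} (a : Γ(G, W))
    (h : ∀ hx : x ∈ W, G.presheaf.germ W x hx a = 0) : a = 0 := by
  refine AssPoints.eq_zero_of_germ_weakAss inferInstance a fun η hη hw => ?_
  obtain rfl : η = x := hA (AssPoints.isWeakAssPoint_iff_isAssPoint.1 hw)
  exact h hη

/-- A jointly monomorphic family detects zero sections. -/
theorem eq_zero_of_jointly_mono {M : X.Modules} {ι : Type u} {G : ι → X.Modules} (q : ∀ i, M ⟶ G i)
    (hm : ∀ (T : X.Modules) (a b : T ⟶ M), (∀ i, a ≫ q i = b ≫ q i) → a = b)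
    {W : X.Opens} (a : Γ(M, W)) (ha : ∀ i, (q i).app W a = 0) : a = 0 := by
  have hmono : Mono (Pi.lift q) := ⟨fun u v h => hm _ u v fun i => by
    simpa using congrArg (· ≫ Pi.π G i) h⟩
  have hinj := (QCohLib.mono_iff_app_injective (Pi.lift q)).1 hmono W
  refine hinj ?_
  rw [map_zero]
  haveI : PreservesLimit (Discrete.functor G)
      (Scheme.Modules.toPresheaf X ⋙ (evaluation _ AddCommGrpCat.{u}).obj (op W)) := by
    haveI : PreservesLimitsOfShape (Discrete ι) (Scheme.Modules.toPresheaf X) :=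
      PreservesLimitsOfSize.preservesLimitsOfShape
    haveI : HasLimitsOfShape (Discrete ι) AddCommGrpCat.{u} := inferInstance
    haveI : PreservesLimitsOfShape (Discrete ι) ((evaluation X.Opensᵒᵖ AddCommGrpCat.{u}).obj (op W)) :=
      evaluation_preservesLimitsOfShape (op W)
    exact comp_preservesLimit _ _
  refine Concrete.isLimit_ext _
    (isLimitOfPreserves (Scheme.Modules.toPresheaf X ⋙ (evaluation _ AddCommGrpCat.{u}).obj (op W))
      (limit.isLimit (Discrete.functor G))) _ _ fun ⟨i⟩ => ?_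
  change (Pi.π G i).app W ((Pi.lift q).app W a) = (Pi.π G i).app W 0
  rw [← ConcreteCategory.comp_apply, ← Scheme.Modules.Hom.comp_app, Pi.lift_π, ha, map_zero]

theorem stalk_injective_of_noEmbedded [IsLocallyNoetherian X] {M : X.Modules} (hM : Coh.IsCoh M)
    (hne : AssSch.NoEmbedded M) {G : ↥(AssSch.Ass M) → X.Modules} (q : ∀ x, M ⟶ G x)
    (hG : ∀ x, Coh.IsCoh (G x)) (hA : ∀ x, AssSch.Ass (G x) = {x.1})
    (hm : ∀ (T : X.Modules) (a b : T ⟶ M), (∀ x, a ≫ q x = b ≫ q x) → a = b)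
    (x : ↥(AssSch.Ass M)) (m : M.presheaf.stalk x.1) (hzero : QCohLib.stalkHom (q x) x.1 m = 0) :
    m = 0 := by
  obtain ⟨W, hxW, a, rfl⟩ := M.presheaf.exists_germ_eq m
  rw [QCohLib.stalkHom_germ, ← map_zero ((G x).presheaf.germ W x.1 hxW).hom] at hzero
  obtain ⟨Z, hxZ, i, j, e⟩ := (G x).presheaf.germ_eq x.1 hxW hxW _ _ hzero
  obtain ⟨V, hV, hxV, -⟩ :=
    exists_isAffineOpen_mem_and_subset (X := X) (x := x.1) (U := ⊤) trivial
  let S := (AssSch.Ass M ∩ (V : Set X)) \ {x.1}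
  have hfin : S.Finite := (finite_ass_inter hM hV).sdiff
  let C : Set X := ⋃ η ∈ S, closure {η}
  have hC : IsClosed C := hfin.isClosed_biUnion fun _ _ => isClosed_closure
  have hxC : x.1 ∉ C := by
    simp only [C, Set.mem_iUnion, not_exists]
    intro η hη hmem
    exact hη.2 (hne x.1 x.2 η hη.1.1 (specializes_iff_mem_closure.2 hmem)).symm
  let Z' : X.Opens := Z ⊓ V ⊓ ⟨Cᶜ, hC.isOpen_compl⟩
  have hxZ' : x.1 ∈ Z' := ⟨⟨hxZ, hxV⟩, hxC⟩
  have hZ'W : Z' ≤ W := (inf_le_left.trans inf_le_left).trans i.le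
  let b : Γ(M, Z') := M.presheaf.map (homOfLE hZ'W).op a
  suffices hb : b = 0 by
    rw [← TopCat.Presheaf.germ_res_apply M.presheaf (homOfLE hZ'W) x.1 hxZ' a]
    change M.presheaf.germ Z' x.1 hxZ' b = 0
    rw [hb, map_zero]
  refine eq_zero_of_jointly_mono q hm b fun y => ?_
  haveI : (G y).IsQuasicoherent := (hG y).1
  refine eq_zero_of_ass_subset_singleton (hA y).le _ fun hy => ?_
  have hyx : y = x := by
    refine Subtype.ext (by_contra fun hne' => hy.2 ?_)
    simp only [C, Set.mem_iUnion]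
    exact ⟨y.1, ⟨⟨y.2, hy.1.2⟩, hne'⟩, subset_closure rfl⟩
  subst hyx
  have hZW : Z ≤ W := i.le
  have hgZ : (G y).presheaf.map (homOfLE hZW).op ((q y).app W a) = 0 := e.trans (map_zero _)
  change (G y).presheaf.germ Z' y.1 hy ((q y).app Z' (M.presheaf.map (homOfLE hZ'W).op a)) = 0
  rw [QCohLib.app_map, TopCat.Presheaf.germ_res_apply,
    ← TopCat.Presheaf.germ_res_apply (G y).presheaf (homOfLE hZW) y.1 hy.1.1, hgZ, map_zero]

theorem app_eq_zero_iff [IsLocallyNoetherian X] {M : X.Modules} (hM : Coh.IsCoh M)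
    (hne : AssSch.NoEmbedded M) {G : ↥(AssSch.Ass M) → X.Modules} (q : ∀ x, M ⟶ G x)
    (hG : ∀ x, Coh.IsCoh (G x)) (hA : ∀ x, AssSch.Ass (G x) = {x.1})
    (hm : ∀ (T : X.Modules) (a b : T ⟶ M), (∀ x, a ≫ q x = b ≫ q x) → a = b)
    (x : ↥(AssSch.Ass M)) {W : X.Opens} (a : Γ(M, W)) :
    (q x).app W a = 0 ↔ ∀ hx : x.1 ∈ W, M.presheaf.germ W x.1 hx a = 0 := by
  haveI : (G x).IsQuasicoherent := (hG x).1
  refine ⟨fun h hx => stalk_injective_of_noEmbedded hM hne q hG hA hm x _ ?_, fun h => ?_⟩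
  · rw [QCohLib.stalkHom_germ, h, map_zero]
  · refine eq_zero_of_ass_subset_singleton (hA x).le _ fun hx => ?_
    rw [← QCohLib.stalkHom_germ, h hx, map_zero]

theorem exists_iso_under {M G G' : X.Modules} (q : M ⟶ G) (q' : M ⟶ G') [Epi q] [Epi q']
    (h : ∀ (W : X.Opens) (a : Γ(M, W)), q.app W a = 0 ↔ q'.app W a = 0) :
    ∃ e : G ≅ G', q ≫ e.hom = q' := by
  have key : ∀ {A B : X.Modules} (p : M ⟶ A) (r : M ⟶ B),
      (∀ (W : X.Opens) (a : Γ(M, W)), p.app W a = 0 → r.app W a = 0) → kernel.ι p ≫ r = 0 := by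
    intro A B p r h'
    refine Scheme.Modules.hom_ext _ _ fun U => ?_
    ext c
    change r.app U ((kernel.ι p).app U c) = 0
    refine h' U _ ?_
    rw [← ConcreteCategory.comp_apply, ← Scheme.Modules.Hom.comp_app, kernel.condition]
    rfl
  let f : G ⟶ G' := Abelian.epiDesc q q' (key q q' fun W a => (h W a).1)
  let g : G' ⟶ G := Abelian.epiDesc q' q (key q' q fun W a => (h W a).2)
  refine ⟨⟨f, g, ?_, ?_⟩, Abelian.comp_epiDesc _ _ _⟩
  · rw [← cancel_epi q]; simp [f, g]
  · rw [← cancel_epi q']; simp [f, g]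

end Groth.Agent.AssSchLib
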